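/-
Helper14 library (FlatUniv): localization commutes with base change; flatness of
`D ⊗[C₀] (M₀)_{b₀}` over `D` versus flatness of `(P_D ⊗[P₀] M₀)_{b}`.
-/
import Mathlib
import Groth.Agent.Lib.Helper14.FlatOpen.Loc

set_option autoImplicit false
universe u
open TensorProduct

namespace Groth.Agent.Lib.Helper14.FlatUniv

open Groth.Agent.Lib.Helper14.FlatOpen

section BCLoc
variable {A B : Type*} [CommRing A] [CommRing B] [Algebra A B] (S : Submonoid A)
  {M X : Type*} [AddCommGroup M] [Module A M] [AddCommGroup X] [Module A X]
  (ι : M →ₗ[A] X) [IsLocalizedModule S ι]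

/-- the base change of a localization map is a localization map at the image submonoid. -/
theorem isLocalizedModule_baseChange :
    IsLocalizedModule (Algebra.algebraMapSubmonoid B S) (ι.baseChange B) := by
  haveI : IsLocalizedModule S ((ι.baseChange B).restrictScalars A) := by
    have h3 : (ι.baseChange B).restrictScalars A =
        ((TensorProduct.comm A X B).toLinearMap ∘ₗ (AlgebraTensorModule.rTensor A B ι)) ∘ₗ
          (TensorProduct.comm A B M).toLinearMap := by
      ext b m
      simp
    rw [h3]
    infer_instance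
  exact IsLocalizedModule.of_restrictScalars S (ι.baseChange B)

end BCLoc

section Congr
variable {A S : Type*} [CommRing A] [CommRing S] [Algebra A S]
  {N₁ N₂ : Type*} [AddCommGroup N₁] [AddCommGroup N₂] [Module A N₁] [Module S N₁]
  [IsScalarTower A S N₁] [Module A N₂] [Module S N₂] [IsScalarTower A S N₂]

/-- flatness of a localization only depends on the module up to linear equivalence. -/
theorem flat_localizedModule_congr (e : N₁ ≃ₗ[S] N₂) (T : Submonoid S)
    (h : Module.Flat A (LocalizedModule T N₁)) : Module.Flat A (LocalizedModule T N₂) :=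
  flat_of_isLocalizedModule_of_isLocalizedModule (A := A) (S := S) T T le_rfl
    (LocalizedModule.mkLinearMap T N₁)
    ((LocalizedModule.mkLinearMap T N₂).comp e.toLinearMap) h

end Congr

section Y
variable {C₀ D P₀ PD : Type u} [CommRing C₀] [CommRing D] [CommRing P₀] [CommRing PD]
  [Algebra C₀ D] [Algebra C₀ P₀] [Algebra D PD] [Algebra P₀ PD] [Algebra C₀ PD]
  [IsScalarTower C₀ D PD] [IsScalarTower C₀ P₀ PD] [Algebra.IsPushout C₀ D P₀ PD]
  (M₀ : Type u) [AddCommGroup M₀] [Module P₀ M₀] [Module C₀ M₀] [IsScalarTower C₀ P₀ M₀]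
  (b₀ : P₀)

/-- localization at an element commutes with base change along a pushout square. -/
theorem flat_tensor_localized_iff :
    Module.Flat D (D ⊗[C₀] LocalizedModule (Submonoid.powers b₀) M₀) ↔
      Module.Flat D (LocalizedModule (Submonoid.powers (algebraMap P₀ PD b₀)) (PD ⊗[P₀] M₀)) := by
  have e1 := Algebra.IsPushout.cancelBaseChange C₀ D P₀ PD
    (LocalizedModule (Submonoid.powers b₀) M₀)
  have heq : Algebra.algebraMapSubmonoid PD (Submonoid.powers b₀) =
      Submonoid.powers (algebraMap P₀ PD b₀) := Submonoid.map_powers _ _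
  haveI hloc : IsLocalizedModule (Submonoid.powers (algebraMap P₀ PD b₀))
      ((LocalizedModule.mkLinearMap (Submonoid.powers b₀) M₀).baseChange PD) := by
    rw [← heq]
    exact isLocalizedModule_baseChange _ _
  have e2 := IsLocalizedModule.linearEquiv (Submonoid.powers (algebraMap P₀ PD b₀))
    ((LocalizedModule.mkLinearMap (Submonoid.powers b₀) M₀).baseChange PD)
    (LocalizedModule.mkLinearMap (Submonoid.powers (algebraMap P₀ PD b₀)) (PD ⊗[P₀] M₀))
  constructor
  · intro h
    haveI : Module.Flat D (PD ⊗[P₀] LocalizedModule (Submonoid.powers b₀) M₀) :=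
      Module.Flat.of_linearEquiv e1
    exact Module.Flat.of_linearEquiv (e2.restrictScalars D).symm
  · intro h
    haveI : Module.Flat D (PD ⊗[P₀] LocalizedModule (Submonoid.powers b₀) M₀) :=
      Module.Flat.of_linearEquiv (e2.restrictScalars D)
    exact Module.Flat.of_linearEquiv e1.symm

end Y

end Groth.Agent.Lib.Helper14.FlatUniv
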