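/-
Helper14 library (FlatUniv): the backward direction of the universal property of the flattening
ideal (no finiteness hypotheses on the target); adapted from helper25's proof of S6926.
-/
import Mathlib
import Groth.Agent.S6926
import Groth.Prelude.Def_FlatCA

set_option autoImplicit false
universe u
open TensorProduct

namespace Groth.Agent.Lib.Helper14.FlatUniv

theorem backward {R S R' S' : Type u} [CommRing R] [IsLocalRing R] [CommRing S]
    [CommRing R'] [IsLocalRing R'] [CommRing S']
    [Algebra R S] [Algebra R R'] [IsLocalHom (algebraMap R R')] [Algebra S S'] [Algebra R' S']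
    [Algebra R S']
    [IsScalarTower R S S'] [IsScalarTower R R' S'] [Algebra.IsPushout R S R' S']
    {M M' : Type u} [AddCommGroup M] [Module S M] [Module R M] [IsScalarTower R S M]
    [AddCommGroup M'] [Module S' M'] [Module R' M'] [IsScalarTower R' S' M'] [Module S M']
    [IsScalarTower S S' M']
    (f : M →ₗ[S] M') (hf : IsBaseChange S' f) (I : Ideal R)
    (hI : (∀ (q : Ideal S) [q.IsPrime], q.comap (algebraMap R S) = IsLocalRing.maximalIdeal R →
        Module.Flat (R ⧸ I) ((R ⧸ I) ⊗[R] LocalizedModule q.primeCompl M)))
    (hker : I ≤ RingHom.ker (algebraMap R R')) :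
    ∀ (q' : Ideal S') [q'.IsPrime],
      q'.comap (algebraMap R' S') = IsLocalRing.maximalIdeal R' → FlatCA.FlatAt R' q' M' := by
  intro q' hq' hq'm
  set q : Ideal S := q'.comap (algebraMap S S') with hqdef
  haveI : q.IsPrime := Ideal.comap_isPrime _ _
  have hq : q.comap (algebraMap R S) = IsLocalRing.maximalIdeal R := by
    rw [hqdef, Ideal.comap_comap, ← IsScalarTower.algebraMap_eq R S S',
      IsScalarTower.algebraMap_eq R R' S', ← Ideal.comap_comap, hq'm]
    exact IsLocalRing.maximalIdeal_comap (algebraMap R R')
  have hWle : Algebra.algebraMapSubmonoid S' q.primeCompl ≤ q'.primeCompl := by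
    rintro _ ⟨x, hx, rfl⟩
    exact hx
  have hT : Module.Flat R' (S' ⊗[S] LocalizedModule q.primeCompl M) := by
    haveI : Algebra.IsPushout R R' S S' := Algebra.IsPushout.symm inferInstance
    have e := Algebra.IsPushout.cancelBaseChange R R' S S' (LocalizedModule q.primeCompl M)
    haveI := hI q hq
    haveI : Module.Flat R' (R' ⊗[R] LocalizedModule q.primeCompl M) :=
      Groth.Agent.Lib.Helper9.FlatSqZero.flat_of_algHom (A := R)
        (Ideal.Quotient.liftₐ I (Algebra.ofId R R')
          (fun a ha => RingHom.mem_ker.mp (hker ha))) _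
    exact Module.Flat.of_linearEquiv e
  let ι : M →ₗ[S] LocalizedModule q.primeCompl M := LocalizedModule.mkLinearMap q.primeCompl M
  let g : M' →ₗ[S'] S' ⊗[S] LocalizedModule q.primeCompl M :=
    hf.lift ((TensorProduct.mk S S' (LocalizedModule q.primeCompl M) 1) ∘ₗ ι)
  have hg : ∀ m, g (f m) = 1 ⊗ₜ ι m := fun m => hf.lift_eq _ m
  haveI hloc : IsLocalizedModule (Algebra.algebraMapSubmonoid S' q.primeCompl) g := by
    haveI : IsLocalizedModule q.primeCompl (g.restrictScalars S) := by
      have h2 : ∀ x, g x = (TensorProduct.comm S (LocalizedModule q.primeCompl M) S')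
          ((AlgebraTensorModule.rTensor S S' ι) ((TensorProduct.comm S S' M)
            (hf.equiv.symm x))) := by
        intro x
        obtain ⟨y, rfl⟩ := hf.equiv.surjective x
        rw [LinearEquiv.symm_apply_apply]
        induction y using TensorProduct.induction_on with
        | zero => simp
        | tmul s m =>
          rw [hf.equiv_tmul, map_smul, hg]
          simp [TensorProduct.smul_tmul']
        | add a b ha hb => simp only [map_add, ha, hb]
      have h3 : g.restrictScalars S =
          ((TensorProduct.comm S (LocalizedModule q.primeCompl M) S').toLinearMap ∘ₗ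
            (AlgebraTensorModule.rTensor S S' ι)) ∘ₗ
          (((hf.equiv.symm.restrictScalars S) ≪≫ₗ (TensorProduct.comm S S' M)) :
            M' ≃ₗ[S] M ⊗[S] S').toLinearMap := by
        ext x; exact h2 x
      rw [h3]
      infer_instance
    exact IsLocalizedModule.of_restrictScalars q.primeCompl g
  let j : S' ⊗[S] LocalizedModule q.primeCompl M →ₗ[S'] LocalizedModule q'.primeCompl M' :=
    IsLocalizedModule.liftOfLE (Algebra.algebraMapSubmonoid S' q.primeCompl) q'.primeCompl hWle g
      (LocalizedModule.mkLinearMap q'.primeCompl M')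
  haveI : IsLocalizedModule q'.primeCompl j := inferInstance
  show Module.Flat R' (LocalizedModule q'.primeCompl M')
  exact Groth.Agent.S6918.flat_of_isLocalizedModule' (R := R') q'.primeCompl j

end Groth.Agent.Lib.Helper14.FlatUniv
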