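/-
Helper14 library (FlatUniv): flatness along the closed fibre descends to a Noetherian local
stage.
-/
import Mathlib
import Groth.Agent.Lib.Helper14.FlatUniv.BCLoc
import Groth.Agent.Lib.Helper14.FlatOpen.Open
import Groth.Agent.Lib.Helper17.FlatStageTest

set_option autoImplicit false
universe u
open TensorProduct

attribute [local instance] MvPolynomial.algebraMvPolynomial

namespace Groth.Agent.Lib.Helper14.FlatUniv

open Groth.Agent.Lib.Helper14.FlatOpen

/-- if a finitely presented module over a finitely presented algebra over a local ring is flat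
at all primes above the closed point, then it is flat on a basic open set `D(b)` with
`b ≡ 1` modulo the maximal ideal. -/
theorem exists_one_sub_mem_and_flat {R' S' : Type u} [CommRing R'] [IsLocalRing R'] [CommRing S']
    [Algebra R' S'] [Algebra.FinitePresentation R' S'] (M' : Type u) [AddCommGroup M']
    [Module S' M'] [Module R' M'] [IsScalarTower R' S' M'] [Module.FinitePresentation S' M']
    (H : ∀ (q' : Ideal S') [q'.IsPrime],
      q'.comap (algebraMap R' S') = IsLocalRing.maximalIdeal R' →
        Module.Flat R' (LocalizedModule q'.primeCompl M')) :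
    ∃ b : S', 1 - b ∈ (IsLocalRing.maximalIdeal R').map (algebraMap R' S') ∧
      Module.Flat R' (LocalizedModule (Submonoid.powers b) M') := by
  classical
  let a : Ideal S' :=
    { carrier := {g | FlatOnD R' M' g}
      add_mem' := by
        intro g₁ g₂ h₁ h₂ Q _ hQ
        by_cases h : g₁ ∈ Q
        · exact h₂ Q (fun h' => hQ (Q.add_mem h h'))
        · exact h₁ Q h
      zero_mem' := fun Q _ hQ => (hQ Q.zero_mem).elim
      smul_mem' := by
        intro c g hg Q _ hQ
        exact hg Q (fun h' => hQ (Q.mul_mem_left c h')) }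
  by_cases htop : a ⊔ (IsLocalRing.maximalIdeal R').map (algebraMap R' S') = ⊤
  · have h1 : (1 : S') ∈ a ⊔ (IsLocalRing.maximalIdeal R').map (algebraMap R' S') := by
      rw [htop]; exact Submodule.mem_top
    obtain ⟨b, hb, c, hc, hbc⟩ := Submodule.mem_sup.1 h1
    refine ⟨b, ?_, (flatOnD_iff b).1 hb⟩
    rw [← hbc, add_sub_cancel_left]
    exact hc
  · exfalso
    obtain ⟨Q, hQmax, hle⟩ := Ideal.exists_le_maximal _ htop
    haveI := hQmax.isPrime
    have hcomap : Q.comap (algebraMap R' S') = IsLocalRing.maximalIdeal R' := by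
      have h1 : IsLocalRing.maximalIdeal R' ≤ Q.comap (algebraMap R' S') := by
        rw [← Ideal.map_le_iff_le_comap]; exact le_trans le_sup_right hle
      exact ((IsLocalRing.maximalIdeal.isMaximal R').eq_of_le
        (Ideal.comap_ne_top _ hQmax.ne_top) h1).symm
    obtain ⟨g, hgQ, hg⟩ := exists_flatOnD Q (H Q hcomap)
    exact hgQ (hle (Ideal.mem_sup_left hg))

/-- scalar tower of polynomial rings. -/
theorem isScalarTower_mvPolynomial (σ : Type*) (R S T : Type*) [CommRing R] [CommRing S]
    [CommRing T] [Algebra R S] [Algebra S T] [Algebra R T] [IsScalarTower R S T] :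
    IsScalarTower (MvPolynomial σ R) (MvPolynomial σ S) (MvPolynomial σ T) :=
  IsScalarTower.of_algebraMap_eq (fun p => by
    simp only [MvPolynomial.algebraMap_def, MvPolynomial.map_map,
      ← IsScalarTower.algebraMap_eq])

/-- a polynomial congruent to `1` modulo `𝔪` lies outside every prime above `𝔪`. -/
theorem not_mem_of_one_sub_mem {D : Type*} [CommRing D] {σ : Type*} (𝔪 : Ideal D)
    (b : MvPolynomial σ D) (hb : 1 - b ∈ 𝔪.map (algebraMap D (MvPolynomial σ D)))
    (Q : Ideal (MvPolynomial σ D)) [Q.IsPrime]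
    (hQ : Q.comap (algebraMap D (MvPolynomial σ D)) = 𝔪) : b ∉ Q := by
  intro hbQ
  have h1 : 𝔪.map (algebraMap D (MvPolynomial σ D)) ≤ Q := by
    rw [Ideal.map_le_iff_le_comap, hQ]
  have h2 : (1 : MvPolynomial σ D) ∈ Q := by
    have := Q.add_mem (h1 hb) hbQ
    rwa [sub_add_cancel] at this
  exact Ideal.IsPrime.ne_top inferInstance ((Ideal.eq_top_iff_one Q).2 h2)

section Stage
variable {C₀ P₀ R' : Type u} [CommRing C₀] [CommRing P₀] [CommRing R'] [Algebra C₀ P₀]
  [Algebra.FinitePresentation C₀ P₀] [Algebra C₀ R']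
  (M₀ : Type u) [AddCommGroup M₀] [Module P₀ M₀] [Module C₀ M₀] [IsScalarTower C₀ P₀ M₀]
  [Module.FinitePresentation P₀ M₀] (b₀ : P₀)

/-- flatness of the base change of `(M₀)_{b₀}` to `R'` already holds over every algebra over
a sufficiently large `C₀`-subalgebra of `R'`. -/
theorem exists_finset_stage
    (hfl : Module.Flat R' (R' ⊗[C₀] LocalizedModule (Submonoid.powers b₀) M₀)) :
    ∃ T : Finset R', ∀ (C₁ : Subalgebra C₀ R'), (↑T ⊆ (C₁ : Set R')) →
      ∀ (D : Type u) [CommRing D] [Algebra C₁ D] [Algebra C₀ D] [IsScalarTower C₀ C₁ D],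
        Module.Flat D (D ⊗[C₀] LocalizedModule (Submonoid.powers b₀) M₀) := by
  classical
  obtain ⟨R₀, C, -, hC, hfl'⟩ := Groth.Agent.Lib.Helper17.FlatStageTest.exists_test C₀
    (Localization.Away b₀) (LocalizedModule (Submonoid.powers b₀) M₀) R' hfl
  obtain ⟨T, hT⟩ := hC
  refine ⟨T, fun C₁ hTC D _ _ _ _ => ?_⟩
  have hmem : ∀ x : C, (x : R') ∈ C₁ := by
    have hle : C ≤ C₁.restrictScalars R₀ := by
      rw [← hT]; exact Algebra.adjoin_le hTC
    exact fun x => hle x.2
  let φ : C →ₐ[R₀] D :=
    { toFun := fun x => algebraMap C₁ D ⟨x.1, hmem x⟩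
      map_one' := by
        rw [← map_one (algebraMap C₁ D)]; rfl
      map_mul' := fun x y => by
        rw [← map_mul (algebraMap C₁ D)]; rfl
      map_zero' := by
        rw [← map_zero (algebraMap C₁ D)]; rfl
      map_add' := fun x y => by
        rw [← map_add (algebraMap C₁ D)]; rfl
      commutes' := fun r => by
        show algebraMap C₁ D ⟨(algebraMap R₀ C r : R'), _⟩ = algebraMap C₀ D (r : C₀)
        rw [IsScalarTower.algebraMap_apply C₀ C₁ D]
        rfl }
  exact hfl' D φ

end Stage

end Groth.Agent.Lib.Helper14.FlatUniv
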