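/-
Helper14 library (FlatUniv): universal property of the flattening ideal over a complete local
Noetherian ring with respect to arbitrary local rings, polynomial ring case.
-/
import Mathlib
import Groth.Agent.Lib.Helper14.FlatUniv.Descend
import Groth.Agent.S6926

set_option autoImplicit false
universe u
open TensorProduct

attribute [local instance] MvPolynomial.algebraMvPolynomial

namespace Groth.Agent.Lib.Helper14.FlatUniv

open Groth.Agent.Lib.Helper14.FlatOpen

section Start
variable {R C₀ R' : Type u} [CommRing R] [CommRing C₀] [CommRing R'] [Algebra R C₀]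
  [Algebra C₀ R'] [Algebra R R'] [IsScalarTower R C₀ R'] (n : ℕ)
  {M M' : Type u} [AddCommGroup M] [Module (MvPolynomial (Fin n) R) M]
  [AddCommGroup M'] [Module (MvPolynomial (Fin n) R') M'] [Module R' M']
  [IsScalarTower R' (MvPolynomial (Fin n) R') M'] [Module (MvPolynomial (Fin n) R) M']
  [IsScalarTower (MvPolynomial (Fin n) R) (MvPolynomial (Fin n) R') M']
  (f : M →ₗ[MvPolynomial (Fin n) R] M') (hf : IsBaseChange (MvPolynomial (Fin n) R') f)
  (b₀ : MvPolynomial (Fin n) C₀)

include hf in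
theorem flat_tensor_of_flat_localized
    (h : Module.Flat R' (LocalizedModule
      (Submonoid.powers (MvPolynomial.map (algebraMap C₀ R') b₀)) M')) :
    Module.Flat R' (R' ⊗[C₀] LocalizedModule (Submonoid.powers b₀)
      (MvPolynomial (Fin n) C₀ ⊗[MvPolynomial (Fin n) R] M)) := by
  haveI := isScalarTower_mvPolynomial (Fin n) R C₀ R'
  rw [flat_tensor_localized_iff (C₀ := C₀) (D := R') (P₀ := MvPolynomial (Fin n) C₀)
    (PD := MvPolynomial (Fin n) R')]
  let e : (MvPolynomial (Fin n) R' ⊗[MvPolynomial (Fin n) C₀]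
      (MvPolynomial (Fin n) C₀ ⊗[MvPolynomial (Fin n) R] M)) ≃ₗ[MvPolynomial (Fin n) R'] M' :=
    (AlgebraTensorModule.cancelBaseChange (MvPolynomial (Fin n) R) (MvPolynomial (Fin n) C₀)
      (MvPolynomial (Fin n) R') (MvPolynomial (Fin n) R') M) ≪≫ₗ hf.equiv
  exact flat_localizedModule_congr e.symm _ h

end Start

section Final
variable {R : Type u} [CommRing R] [IsLocalRing R] [IsNoetherianRing R]
  [IsAdicComplete (IsLocalRing.maximalIdeal R) R] (n : ℕ)
  {M : Type u} [AddCommGroup M] [Module (MvPolynomial (Fin n) R) M] [Module R M]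
  [IsScalarTower R (MvPolynomial (Fin n) R) M] [Module.Finite (MvPolynomial (Fin n) R) M]
  (I : Ideal R) (hIm : I ≤ IsLocalRing.maximalIdeal R)
  (hI : ∀ (q : Ideal (MvPolynomial (Fin n) R)) [q.IsPrime],
    q.comap (algebraMap R (MvPolynomial (Fin n) R)) = IsLocalRing.maximalIdeal R →
      Module.Flat (R ⧸ I) ((R ⧸ I) ⊗[R] LocalizedModule q.primeCompl M))
  (hmin : ∀ J : Ideal R, (∀ (q : Ideal (MvPolynomial (Fin n) R)) [q.IsPrime],
    q.comap (algebraMap R (MvPolynomial (Fin n) R)) = IsLocalRing.maximalIdeal R →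
      Module.Flat (R ⧸ J) ((R ⧸ J) ⊗[R] LocalizedModule q.primeCompl M)) → I ≤ J)
  {C₀ R'' : Type u} [CommRing C₀] [Algebra R C₀] [CommRing R''] [IsLocalRing R'']
  [IsNoetherianRing R''] [Algebra R R''] [Algebra C₀ R''] [IsScalarTower R C₀ R'']
  [IsLocalHom (algebraMap R R'')] (b₀ : MvPolynomial (Fin n) C₀)

include hIm hI hmin in
theorem le_ker_of_stage
    (hb : 1 - MvPolynomial.map (algebraMap C₀ R'') b₀ ∈
      (IsLocalRing.maximalIdeal R'').map (algebraMap R'' (MvPolynomial (Fin n) R'')))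
    (hfl : Module.Flat R'' (R'' ⊗[C₀] LocalizedModule (Submonoid.powers b₀)
      (MvPolynomial (Fin n) C₀ ⊗[MvPolynomial (Fin n) R] M))) :
    I ≤ RingHom.ker (algebraMap R R'') := by
  haveI := isScalarTower_mvPolynomial (Fin n) R C₀ R''
  rw [flat_tensor_localized_iff (C₀ := C₀) (D := R'') (P₀ := MvPolynomial (Fin n) C₀)
    (PD := MvPolynomial (Fin n) R'')] at hfl
  have hOn := (flatOnD_iff (A := R'')
    (N := MvPolynomial (Fin n) R'' ⊗[MvPolynomial (Fin n) C₀]
      (MvPolynomial (Fin n) C₀ ⊗[MvPolynomial (Fin n) R] M))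
    (algebraMap (MvPolynomial (Fin n) C₀) (MvPolynomial (Fin n) R'') b₀)).2 hfl
  let f'' : M →ₗ[MvPolynomial (Fin n) R] (MvPolynomial (Fin n) R'' ⊗[MvPolynomial (Fin n) C₀]
      (MvPolynomial (Fin n) C₀ ⊗[MvPolynomial (Fin n) R] M)) :=
    ((TensorProduct.mk (MvPolynomial (Fin n) C₀) (MvPolynomial (Fin n) R'')
      (MvPolynomial (Fin n) C₀ ⊗[MvPolynomial (Fin n) R] M) 1).restrictScalars
        (MvPolynomial (Fin n) R)).comp
      (TensorProduct.mk (MvPolynomial (Fin n) R) (MvPolynomial (Fin n) C₀) M 1)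
  have hf'' : IsBaseChange (MvPolynomial (Fin n) R'') f'' :=
    IsBaseChange.comp (TensorProduct.isBaseChange (MvPolynomial (Fin n) R) M
      (MvPolynomial (Fin n) C₀))
      (TensorProduct.isBaseChange (MvPolynomial (Fin n) C₀)
        (MvPolynomial (Fin n) C₀ ⊗[MvPolynomial (Fin n) R] M) (MvPolynomial (Fin n) R''))
  refine (Groth.Agent.S6926.result (S := MvPolynomial (Fin n) R)
    (S' := MvPolynomial (Fin n) R'') f'' hf'' I hIm hI hmin).1 ?_
  intro Q _ hQ
  exact hOn Q (not_mem_of_one_sub_mem _ _ hb Q hQ)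

end Final

section MainPoly
variable {R R' : Type u} [CommRing R] [IsLocalRing R] [IsNoetherianRing R]
  [IsAdicComplete (IsLocalRing.maximalIdeal R) R] [CommRing R'] [IsLocalRing R'] [Algebra R R']
  [IsLocalHom (algebraMap R R')] (n : ℕ)
  {M M' : Type u} [AddCommGroup M] [Module (MvPolynomial (Fin n) R) M] [Module R M]
  [IsScalarTower R (MvPolynomial (Fin n) R) M] [Module.Finite (MvPolynomial (Fin n) R) M]
  [AddCommGroup M'] [Module (MvPolynomial (Fin n) R') M'] [Module R' M']
  [IsScalarTower R' (MvPolynomial (Fin n) R') M'] [Module (MvPolynomial (Fin n) R) M']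
  [IsScalarTower (MvPolynomial (Fin n) R) (MvPolynomial (Fin n) R') M']
  (f : M →ₗ[MvPolynomial (Fin n) R] M') (hf : IsBaseChange (MvPolynomial (Fin n) R') f)
  (I : Ideal R) (hIm : I ≤ IsLocalRing.maximalIdeal R)
  (hI : ∀ (q : Ideal (MvPolynomial (Fin n) R)) [q.IsPrime],
    q.comap (algebraMap R (MvPolynomial (Fin n) R)) = IsLocalRing.maximalIdeal R →
      Module.Flat (R ⧸ I) ((R ⧸ I) ⊗[R] LocalizedModule q.primeCompl M))
  (hmin : ∀ J : Ideal R, (∀ (q : Ideal (MvPolynomial (Fin n) R)) [q.IsPrime],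
    q.comap (algebraMap R (MvPolynomial (Fin n) R)) = IsLocalRing.maximalIdeal R →
      Module.Flat (R ⧸ J) ((R ⧸ J) ⊗[R] LocalizedModule q.primeCompl M)) → I ≤ J)

include hIm hI hmin in
/-- second auxiliary step: localize a Noetherian stage `C₁` at the contraction of the maximal
ideal. -/
theorem aux2 {C₀ C₁ : Type u} [CommRing C₀] [CommRing C₁] [Algebra R C₀] [Algebra C₀ C₁]
    [Algebra R C₁] [IsScalarTower R C₀ C₁] [Algebra C₁ R'] [Algebra C₀ R']
    [IsScalarTower C₀ C₁ R'] [IsScalarTower R C₁ R'] [IsNoetherianRing C₁]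
    (b₀ : MvPolynomial (Fin n) C₀)
    (hb' : 1 - MvPolynomial.map (algebraMap C₀ R') b₀ ∈
      (IsLocalRing.maximalIdeal R').map (algebraMap R' (MvPolynomial (Fin n) R')))
    (hstage : ∀ (D : Type u) [CommRing D] [Algebra C₁ D] [Algebra C₀ D] [IsScalarTower C₀ C₁ D],
      Module.Flat D (D ⊗[C₀] LocalizedModule (Submonoid.powers b₀)
        (MvPolynomial (Fin n) C₀ ⊗[MvPolynomial (Fin n) R] M))) :
    I ≤ RingHom.ker (algebraMap R R') := by
  classical
  let 𝔭 : Ideal C₁ := (IsLocalRing.maximalIdeal R').comap (algebraMap C₁ R')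
  haveI : 𝔭.IsPrime := Ideal.comap_isPrime _ _
  haveI : IsNoetherianRing (Localization.AtPrime 𝔭) :=
    IsLocalization.isNoetherianRing 𝔭.primeCompl _ inferInstance
  have hunit : ∀ y : 𝔭.primeCompl, IsUnit (algebraMap C₁ R' y) := fun y => by
    have h1 : algebraMap C₁ R' y ∉ IsLocalRing.maximalIdeal R' := y.2
    exact IsLocalRing.notMem_maximalIdeal.1 h1
  let ρ : Localization.AtPrime 𝔭 →+* R' := IsLocalization.lift hunit
  have hρ : ∀ x : C₁, ρ (algebraMap C₁ _ x) = algebraMap C₁ R' x := IsLocalization.lift_eq hunit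
  have hcomp : ρ.comp (algebraMap R (Localization.AtPrime 𝔭)) = algebraMap R R' := by
    ext r
    rw [RingHom.comp_apply, IsScalarTower.algebraMap_apply R C₁ (Localization.AtPrime 𝔭), hρ,
      ← IsScalarTower.algebraMap_apply]
  haveI : IsLocalHom (algebraMap R (Localization.AtPrime 𝔭)) := by
    haveI : IsLocalHom (ρ.comp (algebraMap R (Localization.AtPrime 𝔭))) := by
      rw [hcomp]; infer_instance
    exact isLocalHom_of_comp _ ρ
  have hb : 1 - MvPolynomial.map (algebraMap C₀ (Localization.AtPrime 𝔭)) b₀ ∈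
      (IsLocalRing.maximalIdeal (Localization.AtPrime 𝔭)).map
        (algebraMap (Localization.AtPrime 𝔭) (MvPolynomial (Fin n) (Localization.AtPrime 𝔭))) := by
    rw [MvPolynomial.algebraMap_eq, MvPolynomial.mem_map_C_iff]
    intro m
    rw [MvPolynomial.algebraMap_eq, MvPolynomial.mem_map_C_iff] at hb'
    have h1 := hb' m
    rw [← map_one (MvPolynomial.map (algebraMap C₀ R')), ← map_sub,
      MvPolynomial.coeff_map, IsScalarTower.algebraMap_apply C₀ C₁ R'] at h1
    rw [← map_one (MvPolynomial.map (algebraMap C₀ (Localization.AtPrime 𝔭))), ← map_sub,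
      MvPolynomial.coeff_map, IsScalarTower.algebraMap_apply C₀ C₁ (Localization.AtPrime 𝔭),
      IsLocalization.AtPrime.to_map_mem_maximal_iff (Localization.AtPrime 𝔭) 𝔭]
    exact h1
  have hker := le_ker_of_stage n I hIm hI hmin (C₀ := C₀) (R'' := Localization.AtPrime 𝔭) b₀ hb
    (hstage (Localization.AtPrime 𝔭))
  intro a ha
  have h2 := hker ha
  rw [RingHom.mem_ker] at h2 ⊢
  rw [← hcomp, RingHom.comp_apply, h2, map_zero]

include hf hIm hI hmin in
/-- first auxiliary step: pass to a finitely generated stage. -/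
theorem aux1 {C₀ : Type u} [CommRing C₀] [Algebra R C₀] [Algebra C₀ R'] [IsScalarTower R C₀ R']
    [Algebra.FiniteType R C₀] (b₀ : MvPolynomial (Fin n) C₀)
    (hb' : 1 - MvPolynomial.map (algebraMap C₀ R') b₀ ∈
      (IsLocalRing.maximalIdeal R').map (algebraMap R' (MvPolynomial (Fin n) R')))
    (hflat : Module.Flat R' (LocalizedModule
      (Submonoid.powers (MvPolynomial.map (algebraMap C₀ R') b₀)) M')) :
    I ≤ RingHom.ker (algebraMap R R') := by
  classical
  haveI : Module.FinitePresentation (MvPolynomial (Fin n) R) M :=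
    Module.finitePresentation_of_finite _ _
  have hfl0 := flat_tensor_of_flat_localized (C₀ := C₀) n f hf b₀ hflat
  obtain ⟨T, hT⟩ := exists_finset_stage (C₀ := C₀) (P₀ := MvPolynomial (Fin n) C₀) (R' := R')
    (MvPolynomial (Fin n) C₀ ⊗[MvPolynomial (Fin n) R] M) b₀ hfl0
  haveI : IsNoetherianRing C₀ := Algebra.FiniteType.isNoetherianRing R C₀
  haveI : Algebra.FiniteType C₀ (Algebra.adjoin C₀ (T : Set R')) :=
    (Subalgebra.fg_iff_finiteType _).1 (Subalgebra.fg_adjoin_finset T)
  haveI : IsNoetherianRing (Algebra.adjoin C₀ (T : Set R')) :=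
    Algebra.FiniteType.isNoetherianRing C₀ _
  exact aux2 n I hIm hI hmin (C₀ := C₀) (C₁ := Algebra.adjoin C₀ (T : Set R')) b₀ hb'
    (fun D _ _ _ _ => hT (Algebra.adjoin C₀ (T : Set R')) Algebra.subset_adjoin D)

include hf hIm hI hmin in
/-- the polynomial ring case of the forward direction. -/
theorem main_poly
    (H : ∀ (q' : Ideal (MvPolynomial (Fin n) R')) [q'.IsPrime],
      q'.comap (algebraMap R' (MvPolynomial (Fin n) R')) = IsLocalRing.maximalIdeal R' →
        Module.Flat R' (LocalizedModule q'.primeCompl M')) :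
    I ≤ RingHom.ker (algebraMap R R') := by
  classical
  haveI : Module.FinitePresentation (MvPolynomial (Fin n) R) M :=
    Module.finitePresentation_of_finite _ _
  haveI : Module.FinitePresentation (MvPolynomial (Fin n) R') M' :=
    FinitePresentation.of_isBaseChange f hf
  obtain ⟨b', hb', hflat⟩ := exists_one_sub_mem_and_flat (R' := R')
    (S' := MvPolynomial (Fin n) R') M' H
  -- coefficient ring
  let C₀ : Subalgebra R R' := Algebra.adjoin R ((b'.coeffs : Finset R') : Set R')
  have hC₀fg : C₀.FG := Subalgebra.fg_adjoin_finset _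
  obtain ⟨b₀, hb₀⟩ : ∃ b₀ : MvPolynomial (Fin n) C₀,
      MvPolynomial.map (algebraMap C₀ R') b₀ = b' := by
    apply MvPolynomial.mem_range_map_iff_coeffs_subset.2
    intro c hc
    exact ⟨⟨c, Algebra.subset_adjoin hc⟩, rfl⟩
  haveI : Algebra.FiniteType R C₀ := (Subalgebra.fg_iff_finiteType C₀).1 hC₀fg
  exact aux1 n f hf I hIm hI hmin (C₀ := C₀) b₀ (by rw [hb₀]; exact hb')
    (by rw [hb₀]; exact hflat)

end MainPoly

end Groth.Agent.Lib.Helper14.FlatUniv
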