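/-
Helper14 library (FlatUniv): reduction of the universal property of the flattening ideal from a
finite type algebra `S` to a polynomial ring surjecting onto it; the general forward and backward
directions.
-/
import Mathlib
import Groth.Agent.Lib.Helper14.FlatUniv.Main
import Groth.Prelude.Def_FlatCA

set_option autoImplicit false
universe u
open TensorProduct

attribute [local instance] MvPolynomial.algebraMvPolynomial

namespace Groth.Agent.Lib.Helper14.FlatUniv

/-- base change along the other side of a pushout square (copy of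
`FlatStage.isBaseChange_of_isPushout'`, whose file cannot be imported together with `FlatOpen`). -/
theorem isBaseChange_of_isPushout_right {R₀ R S₀ S : Type*} [CommRing R₀] [CommRing R]
    [CommRing S₀]
    [CommRing S] [Algebra R₀ R] [Algebra R₀ S₀] [Algebra R₀ S] [Algebra S₀ S] [Algebra R S]
    [IsScalarTower R₀ S₀ S] [IsScalarTower R₀ R S] [Algebra.IsPushout R₀ R S₀ S]
    {M₀ M : Type*} [AddCommGroup M₀] [AddCommGroup M] [Module R₀ M₀] [Module S₀ M₀]
    [IsScalarTower R₀ S₀ M₀]
    [Module S₀ M] [Module S M] [IsScalarTower S₀ S M] [Module R₀ M] [Module R M]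
    [IsScalarTower R₀ S₀ M] [IsScalarTower R S M] [IsScalarTower R₀ R M]
    (f : M₀ →ₗ[S₀] M) (hf : IsBaseChange R (f.restrictScalars R₀)) : IsBaseChange S f := by
  have hcomp : ∀ t : R ⊗[R₀] M₀, f.liftBaseChange S
      ((Algebra.IsPushout.cancelBaseChange R₀ R S₀ S M₀).symm t) = hf.equiv t := by
    intro t
    induction t with
    | zero => simp
    | add x y hx hy => rw [map_add, map_add, hx, hy, map_add]
    | tmul r m =>
      rw [Algebra.IsPushout.cancelBaseChange_symm_tmul, LinearMap.liftBaseChange_tmul,
        hf.equiv_tmul, algebraMap_smul]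
      rfl
  have hbij : Function.Bijective (f.liftBaseChange S) := by
    have : (f.liftBaseChange S : S ⊗[S₀] M₀ → M) =
        hf.equiv ∘ (Algebra.IsPushout.cancelBaseChange R₀ R S₀ S M₀) := by
      funext t
      rw [Function.comp_apply, ← hcomp, LinearEquiv.symm_apply_apply]
    rw [this]
    exact hf.equiv.bijective.comp (Algebra.IsPushout.cancelBaseChange R₀ R S₀ S M₀).bijective
  exact IsBaseChange.of_equiv (LinearEquiv.ofBijective (f.liftBaseChange S) hbij)
    (fun m => by simp)

section Surj
variable {A P S N : Type u} [CommRing A] [CommRing P] [CommRing S] [Algebra A P] [Algebra A S]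
  (π : P →ₐ[A] S) (hπ : Function.Surjective π)
  [AddCommGroup N] [Module S N] [Module A N] [IsScalarTower A S N] [Module P N]
  [IsScalarTower A P N] (hPN : ∀ (p : P) (x : N), p • x = π p • x)

include hπ hPN in
/-- localizing at a prime of `S` or at its contraction to `P` gives the same module. -/
theorem nonempty_localizedModule_comap_equiv (q : Ideal S) [q.IsPrime] :
    Nonempty (LocalizedModule (q.comap π).primeCompl N ≃ₗ[A] LocalizedModule q.primeCompl N) := by
  letI : Algebra P S := π.toRingHom.toAlgebra
  haveI : IsScalarTower A P S := IsScalarTower.of_algebraMap_eq (fun r => (π.commutes r).symm)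
  haveI : IsScalarTower P S N := ⟨fun p s x => by
    show (π p * s) • x = p • (s • x)
    rw [hPN, mul_smul]⟩
  have heq : Algebra.algebraMapSubmonoid S (q.comap π).primeCompl = q.primeCompl := by
    ext s
    constructor
    · rintro ⟨p, hp, rfl⟩
      exact hp
    · intro hs
      obtain ⟨p, rfl⟩ := hπ s
      exact ⟨p, hs, rfl⟩
  haveI h1 : IsLocalizedModule (Algebra.algebraMapSubmonoid S (q.comap π).primeCompl)
      (LocalizedModule.mkLinearMap q.primeCompl N) := by
    rw [heq]; infer_instance
  haveI h2 : IsLocalizedModule (q.comap π).primeCompl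
      ((LocalizedModule.mkLinearMap q.primeCompl N).restrictScalars P) :=
    IsLocalizedModule.restrictScalars _ _
  exact ⟨(IsLocalizedModule.linearEquiv (q.comap π).primeCompl
    (LocalizedModule.mkLinearMap (q.comap π).primeCompl N)
    ((LocalizedModule.mkLinearMap q.primeCompl N).restrictScalars P)).restrictScalars A⟩

include hPN in
/-- the localization at a prime not containing the kernel vanishes. -/
theorem subsingleton_localizedModule_of_not_le (Q : Ideal P) [Q.IsPrime]
    (h : ¬ RingHom.ker π.toRingHom ≤ Q) : Subsingleton (LocalizedModule Q.primeCompl N) := by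
  obtain ⟨g, hgk, hgQ⟩ := SetLike.not_le_iff_exists.1 h
  refine subsingleton_of_forall_eq 0 (fun x => ?_)
  induction x using LocalizedModule.induction_on with
  | h m s =>
    rw [← LocalizedModule.zero_mk 1, LocalizedModule.mk_eq]
    refine ⟨⟨g, hgQ⟩, ?_⟩
    have h0 : π g = 0 := hgk
    show g • (1 : Q.primeCompl) • m = g • s • (0 : N)
    rw [smul_zero, smul_zero, one_smul, hPN, h0, zero_smul]

include hπ hPN in
/-- a property of the localizations at the primes of `S` above `𝔪` passes to the primes of `P`
above `𝔪`. -/
theorem forall_prime_transfer (F : ∀ (X : Type u) [AddCommGroup X] [Module A X], Prop)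
    (hF : ∀ (X Y : Type u) [AddCommGroup X] [Module A X] [AddCommGroup Y] [Module A Y],
      (X ≃ₗ[A] Y) → F Y → F X)
    (hF0 : ∀ (X : Type u) [AddCommGroup X] [Module A X], Subsingleton X → F X) (𝔪 : Ideal A)
    (h : ∀ (q : Ideal S) [q.IsPrime], q.comap (algebraMap A S) = 𝔪 →
      F (LocalizedModule q.primeCompl N)) :
    ∀ (Q : Ideal P) [Q.IsPrime], Q.comap (algebraMap A P) = 𝔪 →
      F (LocalizedModule Q.primeCompl N) := by
  intro Q _ hQ
  by_cases hk : RingHom.ker π.toRingHom ≤ Q
  · haveI : (Q.map π).IsPrime := Ideal.map_isPrime_of_surjective hπ hk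
    have hQ' : (Q.map π).comap π = Q := by
      have := Ideal.comap_map_of_surjective π hπ Q
      rw [this]
      exact sup_eq_left.2 hk
    have hq : (Q.map π).comap (algebraMap A S) = 𝔪 := by
      rw [← hQ]
      ext a
      rw [Ideal.mem_comap, Ideal.mem_comap, ← π.commutes a, ← Ideal.mem_comap, hQ']
    obtain ⟨e⟩ := nonempty_localizedModule_comap_equiv π hπ hPN (Q.map π)
    have h1 := hF _ _ e (h (Q.map π) hq)
    have key : ∀ (Q₁ Q₂ : Ideal P) [Q₁.IsPrime] [Q₂.IsPrime], Q₁ = Q₂ →
        F (LocalizedModule Q₁.primeCompl N) → F (LocalizedModule Q₂.primeCompl N) := by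
      intro Q₁ Q₂ _ _ h12 hF1
      subst h12
      exact hF1
    haveI : ((Q.map π).comap π).IsPrime := Ideal.comap_isPrime _ _
    exact key _ _ hQ' h1
  · exact hF0 _ (subsingleton_localizedModule_of_not_le π hPN Q hk)

include hπ hPN in
/-- converse transfer: from the primes of `P` above `𝔪` to the primes of `S` above `𝔪`. -/
theorem forall_prime_transfer' (F : ∀ (X : Type u) [AddCommGroup X] [Module A X], Prop)
    (hF : ∀ (X Y : Type u) [AddCommGroup X] [Module A X] [AddCommGroup Y] [Module A Y],
      (X ≃ₗ[A] Y) → F Y → F X) (𝔪 : Ideal A)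
    (h : ∀ (Q : Ideal P) [Q.IsPrime], Q.comap (algebraMap A P) = 𝔪 →
      F (LocalizedModule Q.primeCompl N)) :
    ∀ (q : Ideal S) [q.IsPrime], q.comap (algebraMap A S) = 𝔪 →
      F (LocalizedModule q.primeCompl N) := by
  intro q _ hq
  haveI : (q.comap π).IsPrime := Ideal.comap_isPrime _ _
  have hQ : (q.comap π).comap (algebraMap A P) = 𝔪 := by
    rw [← hq]
    ext a
    simp only [Ideal.mem_comap, AlgHom.commutes]
  obtain ⟨e⟩ := nonempty_localizedModule_comap_equiv π hπ hPN q
  exact hF _ _ e.symm (h (q.comap π) hQ)

end Surj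

section Forward
variable {R S R' S' : Type u} [CommRing R] [IsLocalRing R]
  [IsNoetherianRing R] [IsAdicComplete (IsLocalRing.maximalIdeal R) R] [CommRing S]
  [CommRing R'] [IsLocalRing R'] [CommRing S']
  [Algebra R S] [Algebra.FiniteType R S] [Algebra R R'] [IsLocalHom (algebraMap R R')]
  [Algebra S S'] [Algebra R' S']
  [Algebra R S'] [IsScalarTower R S S'] [IsScalarTower R R' S'] [Algebra.IsPushout R S R' S']
  {M M' : Type u} [AddCommGroup M] [Module S M] [Module R M] [IsScalarTower R S M]
  [Module.Finite S M]
  [AddCommGroup M'] [Module S' M'] [Module R' M'] [IsScalarTower R' S' M'] [Module S M']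
  [IsScalarTower S S' M']
  (f : M →ₗ[S] M') (hf : IsBaseChange S' f) (I : Ideal R)
  (hIm : I ≤ IsLocalRing.maximalIdeal R)
  (hI : (∀ (q : Ideal S) [q.IsPrime], q.comap (algebraMap R S) = IsLocalRing.maximalIdeal R →
      Module.Flat (R ⧸ I) ((R ⧸ I) ⊗[R] LocalizedModule q.primeCompl M)))
  (hmin : ∀ J : Ideal R, (∀ (q : Ideal S) [q.IsPrime],
    q.comap (algebraMap R S) = IsLocalRing.maximalIdeal R →
      Module.Flat (R ⧸ J) ((R ⧸ J) ⊗[R] LocalizedModule q.primeCompl M)) → I ≤ J)

/-- invariance of `Flat (R/J) ((R/J) ⊗ X)` under linear equivalences. -/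
theorem flat_quot_tensor_congr {R : Type u} [CommRing R] (J : Ideal R) (X Y : Type u)
    [AddCommGroup X] [Module R X] [AddCommGroup Y] [Module R Y] (e : X ≃ₗ[R] Y)
    (h : Module.Flat (R ⧸ J) ((R ⧸ J) ⊗[R] Y)) : Module.Flat (R ⧸ J) ((R ⧸ J) ⊗[R] X) :=
  Module.Flat.of_linearEquiv
    (AlgebraTensorModule.congr (LinearEquiv.refl (R ⧸ J) (R ⧸ J)) e)

theorem flat_quot_tensor_of_subsingleton {R : Type u} [CommRing R] (J : Ideal R) (X : Type u)
    [AddCommGroup X] [Module R X] (h : Subsingleton X) :
    Module.Flat (R ⧸ J) ((R ⧸ J) ⊗[R] X) := by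
  haveI : Subsingleton ((R ⧸ J) ⊗[R] X) := by
    refine subsingleton_of_forall_eq 0 (fun x => ?_)
    induction x using TensorProduct.induction_on with
    | zero => rfl
    | add x y hx hy => rw [hx, hy, add_zero]
    | tmul a y => rw [Subsingleton.elim y 0, tmul_zero]
  infer_instance

include hf hIm hI hmin in
/-- the forward direction: flatness along the closed fibre after base change to an arbitrary
local ring forces the flattening ideal to map to zero. -/
theorem forward
    (H : ∀ (q' : Ideal S') [q'.IsPrime],
      q'.comap (algebraMap R' S') = IsLocalRing.maximalIdeal R' → FlatCA.FlatAt R' q' M') :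
    I ≤ RingHom.ker (algebraMap R R') := by
  classical
  obtain ⟨n, π, hπ⟩ := Algebra.FiniteType.iff_quotient_mvPolynomial''.1
    (inferInstance : Algebra.FiniteType R S)
  let π' : MvPolynomial (Fin n) R' →ₐ[R'] S' :=
    MvPolynomial.aeval (fun i => algebraMap S S' (π (MvPolynomial.X i)))
  have hππ' : ∀ p : MvPolynomial (Fin n) R,
      π' (MvPolynomial.map (algebraMap R R') p) = algebraMap S S' (π p) := by
    intro p
    induction p using MvPolynomial.induction_on with
    | C r =>
      rw [MvPolynomial.map_C, ← MvPolynomial.algebraMap_eq, π'.commutes,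
        ← MvPolynomial.algebraMap_eq, π.commutes, ← IsScalarTower.algebraMap_apply,
        ← IsScalarTower.algebraMap_apply]
    | add p q hp hq => rw [map_add, map_add, hp, hq, map_add, map_add]
    | mul_X p i hp =>
      rw [map_mul, map_mul, hp, MvPolynomial.map_X, map_mul, map_mul]
      congr 1
      exact MvPolynomial.aeval_X _ i
  have hπ' : Function.Surjective π' := by
    intro x
    have hpo : Algebra.IsPushout R R' S S' := Algebra.IsPushout.symm inferInstance
    have hx : x ∈ π'.range := by
      refine hpo.out.inductionOn x (fun y => y ∈ π'.range) (zero_mem _) ?_ ?_ ?_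
      · intro s
        obtain ⟨p, rfl⟩ := hπ s
        exact ⟨MvPolynomial.map (algebraMap R R') p, hππ' p⟩
      · intro r' y hy
        exact Subalgebra.smul_mem _ hy r'
      · intro y z hy hz
        exact add_mem hy hz
    exact hx
  -- module structures over the polynomial rings
  letI mPM : Module (MvPolynomial (Fin n) R) M := Module.compHom M π.toRingHom
  haveI : IsScalarTower R (MvPolynomial (Fin n) R) M :=
    IsScalarTower.of_algebraMap_smul (fun r m => by
      show π (algebraMap R (MvPolynomial (Fin n) R) r) • m = r • m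
      rw [π.commutes, algebraMap_smul])
  letI mP'M' : Module (MvPolynomial (Fin n) R') M' := Module.compHom M' π'.toRingHom
  haveI : IsScalarTower R' (MvPolynomial (Fin n) R') M' :=
    IsScalarTower.of_algebraMap_smul (fun r m => by
      show π' (algebraMap R' (MvPolynomial (Fin n) R') r) • m = r • m
      rw [π'.commutes, algebraMap_smul])
  letI mPM' : Module (MvPolynomial (Fin n) R) M' :=
    Module.compHom M' (algebraMap (MvPolynomial (Fin n) R) (MvPolynomial (Fin n) R'))
  haveI : IsScalarTower (MvPolynomial (Fin n) R) (MvPolynomial (Fin n) R') M' :=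
    IsScalarTower.of_algebraMap_smul (fun r m => rfl)
  letI mRM' : Module R M' := Module.compHom M' (algebraMap R R')
  haveI : IsScalarTower R R' M' := IsScalarTower.of_algebraMap_smul (fun r m => rfl)
  haveI : IsScalarTower R S M' :=
    IsScalarTower.of_algebraMap_smul (fun r m => by
      show algebraMap R S r • m = algebraMap R R' r • m
      rw [← algebraMap_smul S' (algebraMap R S r) m, ← IsScalarTower.algebraMap_apply,
        IsScalarTower.algebraMap_apply R R' S', algebraMap_smul])
  haveI : IsScalarTower R (MvPolynomial (Fin n) R) M' :=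
    IsScalarTower.of_algebraMap_smul (fun r m => by
      show π' (MvPolynomial.map (algebraMap R R') (algebraMap R (MvPolynomial (Fin n) R) r)) • m
        = algebraMap R R' r • m
      rw [hππ', π.commutes, ← IsScalarTower.algebraMap_apply,
        IsScalarTower.algebraMap_apply R R' S', algebraMap_smul])
  haveI : Module.Finite (MvPolynomial (Fin n) R) M := by
    letI : Algebra (MvPolynomial (Fin n) R) S := π.toRingHom.toAlgebra
    haveI : IsScalarTower (MvPolynomial (Fin n) R) S M := ⟨fun p s m => by
      show (π p * s) • m = π p • (s • m)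
      exact mul_smul _ _ _⟩
    haveI : Module.Finite (MvPolynomial (Fin n) R) S :=
      Module.Finite.of_surjective (Algebra.linearMap (MvPolynomial (Fin n) R) S) hπ
    exact Module.Finite.trans S M
  let fP : M →ₗ[MvPolynomial (Fin n) R] M' :=
    { toFun := f
      map_add' := f.map_add
      map_smul' := fun p m => by
        show f (π p • m) = π' (MvPolynomial.map (algebraMap R R') p) • f m
        rw [f.map_smul, hππ', algebraMap_smul] }
  have hfP : IsBaseChange (MvPolynomial (Fin n) R') fP := by
    haveI hpo : Algebra.IsPushout R R' S S' := Algebra.IsPushout.symm inferInstance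
    have h1 : IsBaseChange R' (f.restrictScalars R) :=
      Groth.Agent.Lib.Helper14.FlatStage.isBaseChange_of_isPushout (R := R) (S := R') (A := S)
        (B := S') f hf
    have h2 : fP.restrictScalars R = f.restrictScalars R := LinearMap.ext (fun _ => rfl)
    exact isBaseChange_of_isPushout_right (R₀ := R) (R := R')
      (S₀ := MvPolynomial (Fin n) R) (S := MvPolynomial (Fin n) R') fP (h2 ▸ h1)
  refine main_poly n fP hfP I hIm ?_ ?_ ?_
  · exact forall_prime_transfer π hπ (fun _ _ => rfl)
      (fun X _ _ => Module.Flat (R ⧸ I) ((R ⧸ I) ⊗[R] X))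
      (fun X Y _ _ _ _ e h => flat_quot_tensor_congr I X Y e h)
      (fun X _ _ h => flat_quot_tensor_of_subsingleton I X h) _ hI
  · intro J hJ
    apply hmin J
    exact forall_prime_transfer' π hπ (fun _ _ => rfl)
      (fun X _ _ => Module.Flat (R ⧸ J) ((R ⧸ J) ⊗[R] X))
      (fun X Y _ _ _ _ e h => flat_quot_tensor_congr J X Y e h) _ hJ
  · exact forall_prime_transfer π' hπ' (fun _ _ => rfl)
      (fun X _ _ => Module.Flat R' X)
      (fun X Y _ _ _ _ e h => Module.Flat.of_linearEquiv e)
      (fun X _ _ h => inferInstance) _ H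

end Forward

end Groth.Agent.Lib.Helper14.FlatUniv
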